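import Mathlib
import Cfsg.Agent.Lib.C6.Build
import Cfsg.Agent.Lib.CasesSp.Basic
import Cfsg.Agent.Lib.SLCases.Proper
import Cfsg.Agent.Lib.Asch.SUProper
import Cfsg.Agent.Lib.OrthE.Mat
import Cfsg.Agent.S3289

/-! Maximality of the normalisers of 2-groups of symplectic type in `Sp`, `SL` and `SU`. -/

set_option autoImplicit false
set_option linter.unusedSectionVars false

namespace CfsgLib.C6

open CfsgLib.OrthE CfsgLib.OMax CfsgLib.SUMax CfsgLib.ClMax CfsgLib.Forms Module QuadraticMap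
open Cfsg Cfsg.Geo CfsgLib.Asch CfsgLib.Unitary

universe u v

theorem se : SE.{u} := fun _ _ _ T S hS hsc H hH hC hN =>
  (Cfsg.Agent.S3289.result T S hS hsc H hH hC hN).1

section Abs

variable {F : Type*} {V : Type u} [Field F] [AddCommGroup V] [Module F V] [FiniteDimensional F V]
  [Finite F] {E : Type v} [AddCommGroup E] [Module (ZMod 2) E] [FiniteDimensional (ZMod 2) E]
  {S : Pau F (End F V) E} {X C : Subgroup (End F V)ˣ}

theorem isMaximalIn_of_dich {G : Type*} [Group G] (e : G ≃* (End F V)ˣ) {K R : Subgroup G}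
    (h : S.PV) (hK : K = C.comap e.toMonoidHom) (hR : S.R = R.map e.toMonoidHom) (hRC : S.R ≤ C)
    (hne : ¬ K ≤ Subgroup.normalizer (R : Set G))
    (hD : ∀ X, S.Nm ⊓ C ≤ X → X ≤ C → S.Dich X C) :
    IsMaximalIn K (Subgroup.normalizer (R : Set G) ⊓ K) := by
  have h1 : Subgroup.normalizer (R : Set G) = S.Nm.comap e.toMonoidHom := by
    rw [show S.Nm = Subgroup.normalizer S.R from inf_eq_right.2 fun g _ => h.mem_CZ g, hR,
      ← Subgroup.map_equiv_normalizer_eq, Subgroup.comap_map_eq_self_of_injective e.injective]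
  rw [h1, hK, ← Subgroup.comap_inf]
  refine isMaximalIn_comap e (isMaximalIn_of inf_le_right ?_ fun X a1 a2 g a3 a4 => ?_)
  · by_contra! h2
    exact hne (h1 ▸ hK ▸ Subgroup.comap_mono fun g hg => (h2 g hg).1)
  · exact (hD X a1 a2).resolve_left (fun h2 => a4 ⟨h2 a3, a2 a3⟩) X ((le_inf S.R_le hRC).trans a1)
      fun g hg n hn => X.mul_mem (X.mul_mem hg hn) (X.inv_mem hg)

/-- The hypotheses on overgroups of the normaliser in the special isometry group. -/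
theorem over_four (h : S.PV) {j : (End F V)ˣ} (hj : j ∈ S.Z) (hjj : j * j = -1) {k : ℕ}
    (hk : finrank (ZMod 2) E = 2 * k + 4) {σ : F →+* F} {B : V →ₛₗ[σ] V →ₗ[F] F}
    (hR : S.R ≤ Iso B) (hX : ∀ g ∈ S.Nm, g ∈ Iso B → g ∈ up (SLV F V) → g ∈ X) :
    S.Over X ∧ (k ≠ 0 → S.OverF X) ∧ ∀ c, 2 = c * c → σ c = c → S.Rot X := by
  have h1 : S.R ≤ X := fun r hr => hX r (S.R_le hr) (hR hr) (h.R_le_SL (by omega) hr)
  have h2 : ∀ {u v x y}, S.Ov u x → S.Ov v y → u * u = -1 → v * v = -1 → x ≠ 0 ∨ 2 ≤ k + 1 →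
      y ≠ 0 ∨ 2 ≤ k + 1 → hs u * (hs v)⁻¹ ∈ X := fun a1 a2 a3 a4 a5 a6 =>
    hX _ (Pau.hd_mem a1.mem a2.mem a3 a4) (hd_mem_Iso S.two (hR a1.mem) (hR a2.mem) a3 a4) (by
      rw [mem_up_SLV, Units.val_mul, map_mul, h.det_hs hj hjj (k := k + 1) hk a1 a3 a5,
        ← h.det_hs hj hjj (k := k + 1) hk a2 a4 a6, ← map_mul]
      simp)
  refine ⟨⟨fun g _ => h.mem_CZ g, h1, fun a1 a2 a3 a4 a5 a6 => h2 a1 a2 a5 a6 (Or.inl a3) (Or.inl a4)⟩,
    fun h0 => ⟨h1, fun u ⟨x, a1⟩ v ⟨y, a2⟩ a3 a4 => h2 a1 a2 a3 a4 (Or.inr (by omega))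
      (Or.inr (by omega))⟩, fun c a1 a2 u ⟨x, a3⟩ a4 => ?_⟩
  have h0 : c ≠ 0 := by rintro rfl; simp [S.two] at a1
  by_cases hx : x = 0
  · obtain ⟨t, ht⟩ := h.scal u (S.ov_zero.1 (hx ▸ a3))
    have h3 : (hs u : End F V) = (1 + t) • 1 := by
      rw [hs_val S.two a4, add_smul, one_smul, show (u : End F V) = t • 1 from LinearMap.ext ht]
    have h4 : 1 + t ≠ 0 := fun e => S.one_ne (by simpa [h3, e] using (hs u).mul_inv.symm)
    exact ⟨1, X.one_mem, _, inv_ne_zero h4, by simp [h3, smul_smul, h4]⟩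
  obtain ⟨g, hg⟩ := exists_rot (inv_ne_zero h0) (hs u)
  refine ⟨g, hX g (h.smul_mem_Nm hg (Pau.hs_mem a3.mem a4))
    (rot_mem_Iso S.two (hR a3.mem) a4 a1 a2 hg) ?_, _, inv_ne_zero h0, hg⟩
  rw [mem_up_SLV, hg, LinearMap.det_smul, h.det_hs hj hjj (k := k + 1) hk a3 a4 (Or.inl hx),
    h.finrank_eq (k := k + 2) hk, a1, pow_succ' 2 (k + 1), pow_mul, ← mul_pow]
  field_simp
  simp

theorem dich_sp (h : S.PV) (hF : (Nat.card F).Prime) (h2 : S.Two) (hm : MinusT S.Q) {k : ℕ}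
    (hk : finrank (ZMod 2) E = 2 * k + 4) {B : LinearMap.BilinForm F V} (hA : B.IsAlt)
    (hB : B.Nondegenerate) (hR : S.R ≤ Iso B) (h1 : S.Nm ⊓ Iso B ≤ X) (h3 : X ≤ Iso B) :
    S.Dich X (Iso B) := by
  refine ind_sp se hF k h h2 hm hk hA hB ⟨(le_inf S.R_le hR).trans h1, fun u a1 v a2 a3 a4 =>
    h1 ⟨Pau.hd_mem a1 a2 a3 a4, hd_mem_Iso S.two (hR a1) (hR a2) a3 a4⟩⟩ h3 fun ⟨c, hc⟩ u a1 a2 => ?_
  have h0 : c ≠ 0 := by rintro rfl; simp [S.two] at hc
  obtain ⟨g, hg⟩ := exists_rot (inv_ne_zero h0) (hs u)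
  exact ⟨g, h1 ⟨h.smul_mem_Nm hg (Pau.hs_mem a1 a2), rot_mem_Iso S.two (hR a1) a2 hc rfl hg⟩, _,
    inv_ne_zero h0, hg⟩

theorem dich_sl (h : S.PV) (hF : (Nat.card F).Prime) {j : (End F V)ˣ} (hj : j ∈ S.Z)
    (hjj : j * j = -1) {k : ℕ} (hk : finrank (ZMod 2) E = 2 * k + 4)
    (h1 : S.Nm ⊓ up (SLV F V) ≤ X) (h3 : X ≤ up (SLV F V)) : S.Dich X (up (SLV F V)) := by
  obtain ⟨a1, a2, a3⟩ := over_four (X := X) h hj hjj hk (B := (0 : V →ₗ[F] V →ₗ[F] F))
    (fun _ _ _ _ => rfl) fun g b1 _ b2 => h1 ⟨b1, b2⟩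
  by_cases h0 : k = 0
  · subst h0
    exact base_four h se hk hj hjj hF (B := (0 : V →ₗ[F] V →ₗ[F] F))
      (Or.inl Function.surjective_id) (up_perfect (sl_perfect ((h.four_le hk.ge).trans' (by omega))))
      (h.R_le_SL hk.ge) a1 (fun ⟨c, hc⟩ => a3 c hc rfl) (fun g _ n => conj_mem_SLV g) (Or.inl h3)
  · exact ind_sl se hF k h ⟨j, hj, hjj⟩ hk (a2 h0)

theorem dich_su (h : S.PV) {K : Type*} [Field K] [Algebra K F] (hK : (Nat.card K).Prime)
    {σ : F →+* F} (hσ : ∀ t, σ t = t ↔ ∃ k, algebraMap K F k = t) {j : (End F V)ˣ} (hj : j ∈ S.Z)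
    (hjj : j * j = -1) {k : ℕ} (hk : finrank (ZMod 2) E = 2 * k + 4) {P : PQ σ V} (hH : P.IsHerm)
    (hP : P.Nondeg) (hR : S.R ≤ Iso P.B) (h1 : S.Nm ⊓ up (SUV P) ≤ X) (h3 : X ≤ up (SUV P)) :
    S.Dich X (up (SUV P)) := by
  obtain ⟨a1, a2, a3⟩ := over_four (X := X) h hj hjj hk hR
    fun g b1 b2 b3 => h1 ⟨b1, (mem_up_SUV hH).2 ⟨b2, b3⟩⟩
  have h4 : X ≤ Iso P.B := fun g hg => ((mem_up_SUV hH).1 (h3 hg)).1
  by_cases h0 : k = 0
  · subst h0
    exact base_su h se hk hj hjj hK (fun t => (hσ t).1) hH hP a1 h4 (fun ⟨c, hc⟩ => a3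
      (algebraMap K F c) (by rw [← map_mul, ← hc, map_ofNat]) ((hσ _).2 ⟨c, rfl⟩))
      (Or.inl fun g hg => (h3 hg).2)
  · exact ind_su se hK (fun t => (hσ t).1) k h ⟨j, hj, hjj⟩ hk hH hP (a2 h0) h4

end Abs

variable {ι : Type} [Fintype ι] [DecidableEq ι] {F : Type u} [Field F] [Fintype F]

/-- Matrices as endomorphisms. -/
noncomputable abbrev toL : GL ι F ≃* (End F (ι → F))ˣ := Matrix.GeneralLinearGroup.toLin

theorem exists_pau_GL [Nonempty ι] (h2 : (2 : F) ≠ 0) {R : Subgroup (GL ι F)}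
    (hR : IsSymplecticTypeGroup 2 R) (habs : ActsAbsolutelyIrreducibly (matrixSet R))
    (hZ : Nat.card (Subgroup.center R) = 2 ∨ Nat.card (Subgroup.center R) = 4) :
    ∃ (E : Type u) (_ : AddCommGroup E) (_ : Module (ZMod 2) E) (_ : FiniteDimensional (ZMod 2) E)
      (S : Pau F (End F (ι → F)) E), S.PV ∧ S.R = R.map toL.toMonoidHom ∧
      Nat.card S.Z = Nat.card (Subgroup.center R) ∧
      Nat.card R = Nat.card (Subgroup.center R) * 2 ^ finrank (ZMod 2) E ∧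
      Fintype.card ι * Fintype.card ι = 2 ^ finrank (ZMod 2) E := by
  have h1 : Monoid.exponent R = 4 := hR.exponent_eq
  have h3 : ∀ x y : R, x * y * x⁻¹ * y⁻¹ ∈ Subgroup.center R := fun x y => by
    rcases hZ with hZ | hZ
    · rw [← (CasesSp.extraspecial_of_type hR hZ).1.2.2]
      exact Subgroup.commutator_mem_commutator (Subgroup.mem_top _) (Subgroup.mem_top _)
    · exact SLCases.comm_mem_center Nat.prime_two hR.pGroup hR.cyclic_of_characteristic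
        (by rw [h1, hZ]) x y
  obtain ⟨E, _, _, _, S, h, e⟩ := exists_pau h2 (R := R.map (toL (ι := ι)).toMonoidHom) (by
    have := congrArg (Submodule.map (Matrix.toLin' (R := F) (m := ι) (n := ι)).toLinearMap)
      (env_eq_top_iff.1 (span_eq_top_of_absIrred habs))
    rw [Submodule.map_span, Submodule.map_top, LinearEquiv.range, matrixSet, Set.image_image] at this
    rw [Subgroup.coe_map, Set.image_image]
    exact this) (by
      rintro _ ⟨r, hr, rfl⟩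
      rw [← map_pow, show r ^ 4 = 1 from
        congrArg Subtype.val (h1 ▸ Monoid.pow_exponent_eq_one (⟨r, hr⟩ : R)), map_one]) (by
      by_contra! h4
      have := Monoid.exponent_dvd_of_forall_pow_eq_one (G := R) (n := 2) fun r => Subtype.ext
        (toL.injective (by simpa [pow_two] using h4 _ ⟨r, r.2, rfl⟩))
      rw [h1] at this
      omega) (by
      rintro _ ⟨r, hr, rfl⟩ _ ⟨s, hs, rfl⟩
      obtain ⟨c, hc⟩ := (mem_scalars_iff _).1
        ((CasesSp.mem_center_iff_scalar habs _).1 (h3 ⟨r, hr⟩ ⟨s, hs⟩))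
      refine ⟨c, ?_⟩
      rw [← map_inv, ← map_inv, ← map_mul, ← map_mul, ← map_mul]
      exact (congrArg Matrix.toLin' hc).trans (by simp; rfl))
  have h4 : Nat.card S.Z = Nat.card (Subgroup.center R) := by
    rw [h.card_Z, e]
    exact Nat.card_congr (Subgroup.centerCongr (toL.subgroupMap R)).toEquiv.symm
  refine ⟨E, _, _, inferInstance, S, h, e, h4, ?_, by simpa using h.finrank_sq⟩
  rw [← h4, ← Pau.card_R, e]
  exact (Subgroup.card_map_of_injective toL.injective).symm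

theorem minusT_of {E : Type v} [AddCommGroup E] [Module (ZMod 2) E] [FiniteDimensional (ZMod 2) E]
    {S : Pau F (End F (ι → F)) E} {R : Subgroup (GL ι F)} (e : S.R = R.map toL.toMonoidHom)
    (hZ : Nat.card S.Z = 2) {k : ℕ} (hk : finrank (ZMod 2) E = 2 * k) (hm : IsOfMinusType k R) :
    MinusT S.Q := fun U hU => by
  obtain ⟨h1, h2⟩ := (Pau.two_of_card hZ).pre_comm hU
  have h3 : Function.Injective (toL.toMonoidHom.comp R.subtype) :=
    toL.injective.comp R.subtype_injective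
  have h4 := hm ((S.pre U).comap (toL.toMonoidHom.comp R.subtype))
    ⟨⟨fun x y => Subtype.ext (h3 (by
      simpa only [Subgroup.coe_mul, map_mul] using h2 _ x.2 _ y.2))⟩⟩
    fun x hx => h3 (by simpa using h1 _ hx)
  rw [← Subgroup.card_map_of_injective h3, Subgroup.map_comap_eq_self (by
    rintro r ⟨x, _, hx⟩
    obtain ⟨y, a1, a2⟩ := e ▸ hx.mem
    exact ⟨⟨y, a1⟩, a2⟩), Pau.card_pre, hZ, ← pow_succ', Nat.pow_lt_pow_iff_right (by omega)] at h4
  omega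

/-- The symplectic case. -/
theorem sp_max {m : ℕ} (hm : 2 ≤ m) (hp : (Fintype.card F).Prime) (ho : Odd (Fintype.card F))
    {R : Subgroup (GL (Fin m ⊕ Fin m) F)} (hR : IsSymplecticTypeGroup 2 R)
    (habs : ActsAbsolutelyIrreducibly (matrixSet R)) (hRD : R ≤ spGL m F) {k : ℕ}
    (hc : Nat.card R = 2 ^ (1 + 2 * k)) (hZ : Nat.card (Subgroup.center R) = 2)
    (hmin : IsOfMinusType k R) : IsMaximalIn (spGL m F) (subgroupNormalizer R ⊓ spGL m F) := by
  have : Nonempty (Fin m ⊕ Fin m) := ⟨.inl ⟨0, by omega⟩⟩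
  have h2 := OrthE.two_ne_zero_of_odd ho
  have hf := CasesSp.sympForm_symp (F := F) m
  obtain ⟨E, _, _, _, S, h, e, h1, h3, h4⟩ := exists_pau_GL h2 hR habs (Or.inl hZ)
  rw [hZ] at h1
  rw [hc, hZ, ← pow_succ', Nat.pow_right_inj (by omega)] at h3
  have h5 : 2 ^ 4 ≤ 2 ^ finrank (ZMod 2) E := by rw [← h4]; simp; nlinarith
  rw [Nat.pow_le_pow_iff_right (by omega)] at h5
  have h6 : S.R ≤ Iso (CasesSp.toB hf.bilinear) := e ▸ Subgroup.map_le_iff_le_comap.2 hRD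
  exact isMaximalIn_of_dich toL h rfl e h6 (CasesSp.not_le_extra hf (by simp; omega) h2
    (CasesSp.extraspecial_of_type hR hZ) habs (hRD.trans CasesSp.isom_le_sim)) fun X =>
    dich_sp h (by simpa using hp) (Pau.two_of_card h1) (minusT_of e h1 (by omega) hmin) (k := k - 2)
      (by omega) (CasesSp.toB_alt hf) (CasesSp.toB_nondeg hf.bilinear hf.nondegenerate) h6

/-- The linear case. -/
theorem sl_max (h4 : 4 ≤ Fintype.card ι) (hp : (Fintype.card F).Prime) (ho : Odd (Fintype.card F))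
    {R : Subgroup (GL ι F)} (hR : IsLinearSymplecticTypeData 2 R) :
    IsMaximalIn (specialLinear ι F) (subgroupNormalizer R ⊓ specialLinear ι F) := by
  have : Nonempty ι := Fintype.card_pos_iff.1 (by omega)
  obtain ⟨p, e, -, -, ⟨h1, -⟩ | ⟨-, -, hZ, -, k, hc⟩ | ⟨-, -, h1, -⟩⟩ := hR.field
  · exact absurd h1 (by decide)
  swap
  · omega
  obtain ⟨E, _, _, _, S, h, e, h1, h3, h5⟩ := exists_pau_GL (OrthE.two_ne_zero_of_odd ho) hR.symplecticType
    hR.absIrred (Or.inr hZ)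
  rw [hZ] at h1
  rw [hc, hZ, show 4 = 2 ^ 2 from rfl, ← pow_add, Nat.pow_right_inj (by omega)] at h3
  have h6 : 2 ^ 4 ≤ 2 ^ finrank (ZMod 2) E := by rw [← h5]; nlinarith
  rw [Nat.pow_le_pow_iff_right (by omega)] at h6
  obtain ⟨j, hj, hjj⟩ := Pau.exists_j_of_card h1
  exact isMaximalIn_of_dich toL h specialLinear_eq e (h.R_le_SL h6)
    (SLCases.not_le_extra (by omega) hR) fun X =>
      dich_sl h (by simpa using hp) hj hjj (k := k - 2) (by omega)

/-- The unitary case. -/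
theorem su_max {n q : ℕ} (hF : Fintype.card F = q ^ 2) (h4 : 4 ≤ n) (hq : q.Prime) (ho : Odd q)
    {R : Subgroup (GL (Fin n) F)} (hR : IsSymplecticTypeGroup 2 R)
    (habs : ActsAbsolutelyIrreducibly (matrixSet R)) (hRD : R ≤ GU n F q) {k : ℕ}
    (hc : Nat.card R = 2 ^ (2 + 2 * k)) (hZ : Nat.card (Subgroup.center R) = 4) :
    IsMaximalIn (GU n F q ⊓ specialLinear (Fin n) F)
      (subgroupNormalizer R ⊓ (GU n F q ⊓ specialLinear (Fin n) F)) := by
  have : Nonempty (Fin n) := ⟨⟨0, by omega⟩⟩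
  have : Fact q.Prime := ⟨hq⟩
  have : CharP F q := charP_of_card_eq_prime_pow hF
  obtain ⟨E, _, _, _, S, h, e, h1, h3, h5⟩ := exists_pau_GL (OrthE.two_ne_zero_of_odd (hF ▸ ho.pow)) hR
    habs (Or.inr hZ)
  rw [hZ] at h1
  rw [hc, hZ, show 4 = 2 ^ 2 from rfl, ← pow_add, Nat.pow_right_inj (by omega)] at h3
  have h6 : 2 ^ 4 ≤ 2 ^ finrank (ZMod 2) E := by rw [← h5]; simp; nlinarith
  rw [Nat.pow_le_pow_iff_right (by omega)] at h6
  obtain ⟨j, hj, hjj⟩ := Pau.exists_j_of_card h1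
  have h7 : S.R ≤ Iso (uPQ hF n).B := e ▸ Subgroup.map_le_iff_le_comap.2
    fun g hg u v => hRD hg v u
  refine isMaximalIn_of_dich toL h (RootMax.su_eq_isom hF n) e (fun r hr =>
    (mem_up_SUV (uPQ_isHerm hF n)).2 ⟨h7 hr, h.R_le_SL h6 hr⟩)
    (not_le_subgroupNormalizer hF (by omega) (by omega) (fun g hg => ⟨1, fun u v => by
      rw [Units.val_one, one_mul]; exact hRD hg u v⟩)
      (not_le_scalars_of_irred (by simp; omega) habs.1) fun h8 => SUG_not_le_scalars hF (n := n)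
        (by omega) ?_) fun X => dich_su h (K := (⊥ : Subfield F)) (by rwa [Subfield.card_bot F q])
      (fun t => ?_) hj hjj (k := k - 2) (by omega) (uPQ_isHerm hF n) (uPQ_nondeg hF n) h7
  · rw [← SUG_perfect hF (by omega) (by omega), Subgroup.commutator_le]
    exact fun x hx y hy => (CasesSp.mem_center_iff_scalar habs _).1 (SLCases.comm_mem_center
      Nat.prime_two hR.pGroup hR.cyclic_of_characteristic (by rw [hR.exponent_eq, hZ]; rfl)
      ⟨x, h8 hx⟩ ⟨y, h8 hy⟩)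
  · rw [conj_apply, ← Subfield.mem_bot_iff_pow_eq_self F q]
    exact ⟨fun h => ⟨⟨t, h⟩, rfl⟩, fun ⟨k, h⟩ => h ▸ k.2⟩


end CfsgLib.C6
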