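import Mathlib
import Cfsg.Agent.Lib.C6.Sing
import Cfsg.Agent.Lib.C6.Wrap

/-! The centraliser of an element of order four in an orthogonal group, as a linear or a unitary
group. -/

set_option autoImplicit false
set_option linter.unusedSectionVars false

namespace CfsgLib.C6

open CfsgLib.OrthE CfsgLib.OMax CfsgLib.SUMax CfsgLib.ClMax CfsgLib.Forms Module QuadraticMap

open scoped QuadraticAlgebra

universe u v

variable {F : Type*} {V : Type u} [Field F] [AddCommGroup V] [Module F V] [FiniteDimensional F V]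
  [Finite F] {E : Type v} [AddCommGroup E] [Module (ZMod 2) E] [FiniteDimensional (ZMod 2) E]
  {S : Pau F (End F V) E} {X : Subgroup (End F V)ˣ} {B : LinearMap.BilinForm F V} {e b : E}

theorem mem_SLV_of_pow (hF : (Nat.card F).Prime) {K W : Type*} [Field K] [Algebra F K]
    [AddCommGroup W] [Module K W] [FiniteDimensional K W] {y : (End K W)ˣ}
    (h : y ^ Nat.card F = 1) : y ∈ up (SLV K W) := by
  have := Fact.mk hF
  have := Fintype.ofFinite F
  have : CharP F (Nat.card F) := charP_of_card_eq_prime Fintype.card_eq_nat_card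
  have := charP_of_injective_algebraMap (algebraMap F K).injective (Nat.card F)
  refine mem_up_SLV.2 (frobenius_inj K (Nat.card F) ?_)
  rw [map_one, frobenius_def, ← map_pow, ← Units.val_pow_eq_pow_val, h, Units.val_one, map_one]

theorem Res.pow {W : Submodule F V} {g : (End F V)ˣ} {y : (End F W)ˣ} (h : Res g y) (n : ℕ) :
    Res (g ^ n) (y ^ n) := by
  induction n with
  | zero => simpa using Res.one
  | succ n ih => rw [pow_succ, pow_succ]; exact ih.mul h

/-- `X` contains the unipotent isometries commuting with `J`. -/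
def Big (B : LinearMap.BilinForm F V) (X : Subgroup (End F V)ˣ) (J : (End F V)ˣ) : Prop :=
  ∀ g ∈ Iso B, g * J = J * g → g ^ Nat.card F = 1 → g ∈ X

namespace Pau

/-- The centre enlarged by a square root of `-1`. -/
def wide {A : Type*} [Ring A] [Algebra F A] [Finite A] (S : Pau F A E) {j : Aˣ} (hj : j * j = -1)
    (hc : ∀ g, j * g = g * j) (h : S.Two) : Pau F A E where
  Q := S.Q
  P := S.P
  Z := Subgroup.zpowers j
  τ := S.τ
  nd := S.nd
  two := S.two
  P0 := S.P0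
  mul := S.mul
  sq := S.sq
  neg_mem := (mem_zpowers_four hj).2 (by simp)
  zP c h x := by rcases (mem_zpowers_four hj).1 h with rfl | rfl | rfl | rfl <;> simp [hc]
  zz c h d _ := by rcases (mem_zpowers_four hj).1 h with rfl | rfl | rfl | rfl <;> simp [hc]
  z1 c hc h1 := by
    rcases (mem_zpowers_four hj).1 hc with rfl | rfl | rfl | rfl
    · simp
    · simp
    · exact absurd (hj.symm.trans h1) (S.neg_ne 1)
    · exact absurd (hj.symm.trans (by simpa using h1)) (S.neg_ne 1)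
  z2 c hc := by rcases (mem_zpowers_four hj).1 hc with rfl | rfl | rfl | rfl <;> simp [hj]
  τc := S.τc
  τ1 := S.τ1
  sep g _ :=
    let ⟨c, a1, a2⟩ := S.sep g (h.mem_CZ g)
    ⟨c, (mem_zpowers_four hj).2 (by rcases h c a1 with h | h <;> simp [h]), a2⟩

variable (hse : SE.{u}) (hF : (Nat.card F).Prime) (h : S.PV) (h2 : S.Two) (hX : S.OverF X)
  (hB : B.Nondegenerate) (hXC : X ≤ Iso B) {k : ℕ} (hk : finrank (ZMod 2) E = 2 * k + 6)
  (he : S.Q e = 1)
include hse hF h h2 hX hB hXC hk he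

theorem PV.split {i : F} (hi : i * i = -1) : S.N0 X (S.P e) ∨ Big B X (S.P e) := by
  obtain ⟨j, hj⟩ := exists_rot (c := i) (by rintro rfl; simp at hi) (1 : (End F V)ˣ)
  have a1 : ∀ v : V, j • v = i • v := fun v => by rw [usmul, hj]; rfl
  have a2 : j * j = -1 := uext fun v => by simp [mul_smul, a1, smul_smul, hi]
  have a3 : ∀ g, j * g = g * j := fun g => uext fun v => by
    rw [mul_smul, mul_smul, a1, a1, usmul_smul]
  have a4 := sq_one he
  obtain ⟨b, hb⟩ := exists_one S.nd (ne_of_Q he)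
  have h' : (S.wide a2 a3 h2).PV := ⟨h.τ_eq, h.span, fun c hc => by
    rcases (mem_zpowers_four a2).1 hc with rfl | rfl | rfl | rfl
    exacts [⟨1, by simp⟩, ⟨-1, by simp⟩, ⟨i, a1⟩, ⟨-i, by simp [a1]⟩]⟩
  have hs : (S.wide a2 a3 h2).Inv (j * S.P e) e := ⟨⟨j, Subgroup.mem_zpowers j, rfl⟩, ne_of_Q he, by
    rw [mul_assoc, ← mul_assoc (S.P e), ← a3, mul_assoc, a4, mul_neg_one, mul_neg, a2, neg_neg]⟩
  have a5 : ∀ g, g * (j * S.P e) = j * S.P e * g ↔ g * S.P e = S.P e * g := fun g => by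
    rw [← mul_assoc, ← a3, mul_assoc, mul_assoc, mul_right_inj]
  have a6 : S.R ≤ (S.wide a2 a3 h2).R := fun r ⟨x, c, hc, e⟩ =>
    ⟨x, c, (mem_zpowers_four a2).2 (by rcases h2 c hc with h | h <;> simp [h]), e⟩
  have a7 : ∀ v ∈ WW (j * S.P e), S.P e • v = -i • v := fun v hv => by
    have := congrArg (j • ·) (mem_WW.1 hv)
    simp only [← mul_smul, ← mul_assoc, a2] at this
    rw [neg_smul, ← a1, ← this]; simp
  have a8 : ∀ y ∈ (loc h' hs hb).R, ∃ r ∈ S.R, r * (j * S.P e) = j * S.P e * r ∧ Res r y := by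
    rintro y ⟨x, hx⟩
    obtain ⟨_, ⟨c, c1, rfl⟩, c2⟩ := exists_lift hx
    replace c2 : Res (c * S.P x) y := c2
    have c3 : S.P x * (j * S.P e) = j * S.P e * S.P x := hs.comm x (ov_P _ _)
    have c4 : ∀ v ∈ WW (j * S.P e), (j * S.P x) • v = -(S.P e * S.P x) • v := fun v hv => by
      simp [mul_smul, a1, a7 _ (smul_mem_WW c3 hv)]
    have c5 : Commute (S.P e * S.P x) (j * S.P e) := Commute.mul_left ((a5 _).2 rfl) c3
    have c6 := S.R.mul_mem (S.P_mem e) (S.P_mem x)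
    rcases (mem_zpowers_four a2).1 c1 with rfl | rfl | rfl | rfl
    · exact ⟨_, S.P_mem x, c3, by simpa using c2⟩
    · exact ⟨_, (S.ov_P x).neg.mem, by simp [c3], by simpa using c2⟩
    · exact ⟨_, S.R.mul_mem (S.Z_le S.neg_mem) c6, by simpa using c5.eq,
        c2.congr (by simpa using c4)⟩
    · exact ⟨_, c6, c5, c2.congr fun v hv => by
        rw [neg_mul, Units.neg_smul]; exact neg_eq_iff_eq_neg.2 (by simpa using c4 v hv)⟩
  have a9 : ∀ g ∈ Iso B, ∀ k ∈ Iso B, g * (j * S.P e) = j * S.P e * g →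
      k * (j * S.P e) = j * S.P e * k → (∀ v ∈ WW (j * S.P e), g • v = k • v) → g = k := by
    intro g b1 k b2 b3 b4 b5
    refine ext_WW S.two hs.sq b5 fun v hv => sub_eq_zero.1 (hB.1 _ fun w => ?_)
    obtain ⟨x, hx, y, hy, rfl⟩ := exists_WW S.two hs.sq (g⁻¹ • w)  |>.imp fun _ h => h.imp_right
      fun h => h.imp fun _ h => h.imp_right inv_smul_eq_iff.1
    have b6 : ∀ u ∈ WW (-(j * S.P e)), S.P e • u = i • u := fun u hu => by
      have := congrArg (j • ·) (mem_WW_neg.1 hu)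
      simp only [← mul_smul, ← mul_assoc, a2] at this
      simpa [a1] using this
    have b7 : ∀ u ∈ WW (-(j * S.P e)), ∀ w ∈ WW (-(j * S.P e)), B u w = 0 := fun u hu w hw => by
      have := hXC (hX.le (S.P_mem e)) u w
      rw [b6 u hu, b6 w hw] at this
      simp only [map_smul, LinearMap.smul_apply, smul_eq_mul] at this
      exact mul_left_cancel₀ S.two (by linear_combination -this + B u w * hi)
    rw [smul_add, map_add, b7 _ (Submodule.sub_mem _ (smul_mem_WW_neg b3 hv) (smul_mem_WW_neg b4 hv))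
      _ (smul_mem_WW_neg b3 hy), add_zero, map_sub, LinearMap.sub_apply, b1, b5 x hx, b2, sub_self]
  have b1 : (loc h' hs hb).OverF (resG X (j * S.P e)) := by
    refine ⟨fun y hy => let ⟨r, c1, c2⟩ := a8 y hy; ⟨r, hX.le c1, c2⟩, fun u hu v hv c1 c2 => ?_⟩
    obtain ⟨r, d1, d2, d3⟩ := a8 u hu
    obtain ⟨t, d4, d5, d6⟩ := a8 v hv
    have d7 := sq_of_res h' hs (a6 d1) d3 c1
    have d8 := sq_of_res h' hs (a6 d4) d6 c2
    have e1 : Commute (C6.hs r) _ := (hs_comm S.two d7 d2.symm).symm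
    have e2 : Commute (C6.hs t) _ := (hs_comm S.two d8 d5.symm).symm
    exact ⟨_, hX.pr _ d1 _ d4 d7 d8, e1.mul_left e2.inv_left,
      (d3.hs S.two d7).mul (d6.hs S.two d8).inv⟩
  have b2 : finrank (ZMod 2) (EE S.Q e b) = 2 * k + 4 := by have := finrank_EE S.nd hb; omega
  refine (ind_sl hse hF k (loc_PV (h := h') (hs := hs) (hb := hb))
    (exists_j_loc (Subgroup.mem_zpowers j) a2) b2 b1).imp
    (fun c1 g c2 c3 r c4 c5 => ?_) fun c1 g c2 c3 c4 => ?_
  · obtain ⟨y, hy⟩ := C6.exists_res ((a5 g).2 c3)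
    obtain ⟨z, hz⟩ := C6.exists_res ((a5 r).2 c5)
    obtain ⟨t, d1, d2, d3⟩ := a8 _ (conj_mem (c1 ⟨g, c2, (a5 g).2 c3, hy⟩)
      (mem_loc_R (a6 c4) ((a5 r).2 c5) hz))
    have d4 : Commute g (j * S.P e) := (a5 g).2 c3
    rwa [a9 _ (hXC (X.mul_mem (X.mul_mem c2 (hX.le c4)) (X.inv_mem c2))) t (hXC (hX.le d1))
      ((d4.mul_left ((a5 r).2 c5)).mul_left d4.inv_left) d2 fun v => (hy.conj hz).eq_on d3]
  · obtain ⟨y, hy⟩ := C6.exists_res ((a5 g).2 c3)
    obtain ⟨t, d1, d2, d3⟩ := c1 _ b1.le (fun g hg n hn => Subgroup.mul_mem _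
      (Subgroup.mul_mem _ hg hn) (Subgroup.inv_mem _ hg))
      (mem_SLV_of_pow hF ((hy.pow _).unique (c4 ▸ Res.one)))
    rwa [a9 g c2 t (hXC d1) ((a5 g).2 c3) d2 fun v => hy.eq_on d3]

end Pau

section Cx

/-- The field obtained by adjoining a square root of `-1`. -/
abbrev Fi (F : Type*) [Field F] := QuadraticAlgebra F (-1) 0

variable [Fact (∀ r : F, r ^ 2 ≠ -1 + 0 * r)]

/-- The space as a module over the quadratic extension. -/
def Cx (_ : Fi F →ₐ[F] End F V) : Type u := V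

variable {φ : Fi F →ₐ[F] End F V}

instance : AddCommGroup (Cx φ) := inferInstanceAs (AddCommGroup V)

instance : Module F (Cx φ) := inferInstanceAs (Module F V)

instance : Module (Fi F) (Cx φ) := Module.compHom V φ.toRingHom

instance : IsScalarTower F (Fi F) (Cx φ) := ⟨fun t k v => LinearMap.congr_fun (map_smul φ t k) v⟩

instance : Module.Finite F (Cx φ) := inferInstanceAs (Module.Finite F V)

instance : Module.Finite (Fi F) (Cx φ) := Module.Finite.of_restrictScalars_finite F _ _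

instance : Finite (Fi F) := Module.finite_of_finite F

variable (φ) in
/-- Restriction of scalars. -/
def rs : End (Fi F) (Cx φ) →ₐ[F] End F V where
  toFun f := f.restrictScalars F
  map_one' := rfl
  map_mul' _ _ := rfl
  map_zero' := rfl
  map_add' _ _ := rfl
  commutes' _ := rfl

theorem rs_inj : Function.Injective (rs φ) := LinearMap.restrictScalars_injective F

theorem rs_smul (k : Fi F) (f : End (Fi F) (Cx φ)) : rs φ (k • f) = φ k * rs φ f := rfl

theorem φ_eq (k : Fi F) : φ k = k.re • 1 + k.im • φ ω := by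
  conv_lhs => rw [show k = ⟨k.re, k.im⟩ from rfl, QuadraticAlgebra.mk_eq_add_smul_omega]
  rw [map_add, map_smul, AlgHom.commutes, Algebra.algebraMap_eq_smul_one]

theorem exists_rs {f : End F V} (h : f * φ ω = φ ω * f) : ∃ f', rs φ f' = f :=
  ⟨⟨f.toAddHom, fun k v => LinearMap.congr_fun (show f * φ k = φ k * f by
    simp [φ_eq k, mul_add, add_mul, h]) v⟩, rfl⟩

variable (φ) in
/-- Restriction of scalars on units. -/
def ru : (End (Fi F) (Cx φ))ˣ →* (End F V)ˣ := Units.map (rs φ).toRingHom.toMonoidHom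

theorem ru_inj : Function.Injective (ru φ) := Units.map_injective rs_inj

theorem ru_neg (g : (End (Fi F) (Cx φ))ˣ) : ru φ (-g) = -ru φ g := rfl

variable {J : (End F V)ˣ}

theorem exists_ru (hJ : φ ω = J) {g : (End F V)ˣ} (h : g * J = J * g) : ∃ g', ru φ g' = g := by
  obtain ⟨a, ha⟩ := exists_rs (φ := φ) (f := g) (hJ ▸ congrArg Units.val h)
  obtain ⟨b, hb⟩ := exists_rs (φ := φ) (f := g⁻¹.1) (hJ ▸ congrArg Units.val (Commute.inv_left h))
  exact ⟨⟨a, b, rs_inj (by simp [ha, hb]), rs_inj (by simp [ha, hb])⟩, Units.ext ha⟩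

theorem ru_comm (hJ : φ ω = J) (g : (End (Fi F) (Cx φ))ˣ) : ru φ g * J = J * ru φ g :=
  uext fun v => by
    have := g.1.map_smul ω v
    rw [mul_smul, mul_smul, usmul J, usmul J, ← hJ]; exact this

theorem ru_hs (h2 : (2 : F) ≠ 0) (h2' : (2 : Fi F) ≠ 0)
    {u : (End (Fi F) (Cx φ))ˣ} (hu : u * u = -1) : ru φ (hs u) = hs (ru φ u) := Units.ext (by
  rw [hs_val h2 (by rw [← map_mul, hu]; rfl)]
  exact congrArg (rs φ) (hs_val h2' hu))

variable (φ) in
/-- The identity map. -/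
def cx : Cx φ ≃ₗ[F] V := LinearEquiv.refl F V

theorem cx_smul (hJ : φ ω = J) (k : Fi F) (v : Cx φ) :
    cx φ (k • v) = k.re • cx φ v + k.im • J • cx φ v := by
  change φ k v = _
  rw [φ_eq k, hJ]; rfl

theorem cx_ru (g : (End (Fi F) (Cx φ))ˣ) (v : Cx φ) : cx φ (g • v) = ru φ g • cx φ v := rfl

theorem B_J (h1 : J ∈ Iso B) (h2 : J * J = -1) (u v : V) : B (J • u) v = -B u (J • v) := by
  rw [← h1, ← mul_smul, h2]; simp

/-- The Hermitian form. -/
def herm (hJ : φ ω = J) (h1 : J ∈ Iso B) (h2 : J * J = -1) :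
    Cx φ →ₛₗ[starRingEnd (Fi F)] Cx φ →ₗ[Fi F] Fi F :=
  LinearMap.mk₂'ₛₗ _ _ (fun u v => ⟨B (cx φ u) (cx φ v), -B (cx φ u) (J • cx φ v)⟩)
    (fun u v w => by ext <;> simp [add_comm])
    (fun k u v => by ext <;> simp [cx_smul hJ, starRingEnd_apply, B_J h1 h2, ← mul_smul, h2]; ring)
    (fun u v w => by ext <;> simp [add_comm])
    (fun k u v => by ext <;> simp [cx_smul hJ, usmul_smul, ← mul_smul, h2, add_comm])

theorem herm_apply (hJ : φ ω = J) (h1 : J ∈ Iso B) (h2 : J * J = -1) (u v : Cx φ) :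
    herm hJ h1 h2 u v = ⟨B (cx φ u) (cx φ v), -B (cx φ u) (J • cx φ v)⟩ := rfl

theorem two_Fi (h2 : (2 : F) ≠ 0) : (2 : Fi F) ≠ 0 := by
  rw [← map_ofNat (algebraMap F (Fi F))]; exact (map_ne_zero _).2 h2

theorem exists_scal (hJ : φ ω = J) (h2 : J * J = -1) {c : (End F V)ˣ} (hc : c ∈ Subgroup.zpowers J) :
    ∃ k, φ k = c := by
  rcases (mem_zpowers_four h2).1 hc with rfl | rfl | rfl | rfl
  exacts [⟨1, by simp⟩, ⟨-1, by simp⟩, ⟨ω, hJ⟩, ⟨-ω, by simp [hJ]⟩]

namespace Pau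

variable (h : S.PV) (h2 : S.Two) (he : S.Q e = 1) (hb : polar S.Q e b = 1) (hJ : φ ω = S.P e)
include hJ

/-- The lift of the section. -/
noncomputable def lp (x : EE S.Q e b) : (End (Fi F) (Cx φ))ˣ :=
  (exists_ru hJ ((S.ov_P x).comm0 (S.ov_P e) (pc (EE.left x)))).choose

theorem ru_lp (x : EE S.Q e b) : ru φ (lp hJ x) = S.P x :=
  (exists_ru hJ ((S.ov_P x).comm0 (S.ov_P e) (pc (EE.left x)))).choose_spec

include h h2 he hb

theorem span_lp :
    Submodule.span (Fi F) (Set.range fun x : EE S.Q e b => (lp hJ x : End (Fi F) (Cx φ))) = ⊤ := by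
  have a1 := val_sq (sq_one he)
  have key : ∀ f : End F V, ∃ f' ∈ Submodule.span (Fi F)
      (Set.range fun x : EE S.Q e b => (lp hJ x : End (Fi F) (Cx φ))),
      rs φ f' = f - S.P e * f * S.P e := h.induction (fun x => by
    rcases C6.z2 (polar S.Q e x) with c | c
    · have c1 := (S.ov_P e).comm0 (S.ov_P x) c
      obtain ⟨y, c, c2, c3⟩ := (mem_sub_R (h := h2) (he := he) (hb := hb)).2 ⟨S.P_mem x, c1⟩
      obtain ⟨k, hk⟩ := exists_scal hJ (sq_one he) c2
      refine ⟨(2 * k) • (lp hJ y).1, Submodule.smul_mem _ _ (Submodule.subset_span ⟨y, rfl⟩), ?_⟩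
      rw [rs_smul, map_mul, hk, show rs φ (lp hJ y).1 = _ from congrArg Units.val (ru_lp hJ y),
        mul_assoc, ← Units.val_mul, ← show S.P x = c * S.P y from c3, ← Units.val_mul, c1,
        Units.val_mul, mul_assoc, a1, map_ofNat, two_mul, mul_neg_one, sub_neg_eq_add]
    · refine ⟨0, Submodule.zero_mem _, ?_⟩
      rw [← Units.val_mul, (S.ov_P e).comm1 (S.ov_P x) c]
      simp [mul_assoc, a1])
    ⟨0, Submodule.zero_mem _, by simp⟩
    (fun _ _ ⟨f, c1, c2⟩ ⟨g, c3, c4⟩ => ⟨f + g, Submodule.add_mem _ c1 c3, by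
      rw [map_add, c2, c4]; noncomm_ring⟩)
    fun t _ ⟨f, c1, c2⟩ => ⟨t • f, Submodule.smul_of_tower_mem _ t c1, by
      simp [c2, smul_sub]⟩
  refine eq_top_iff.2 fun f _ => ?_
  obtain ⟨g, c1, c2⟩ := key (rs φ f)
  have c3 : g = (2 : Fi F) • f := rs_inj (by
    have : φ ω * rs φ f = rs φ f * φ ω := LinearMap.ext fun v => (f.map_smul ω v).symm
    rw [c2, ← hJ, this, hJ, mul_assoc, a1, two_smul, map_add, mul_neg_one, sub_neg_eq_add])
  exact (Submodule.smul_mem_iff _ (two_Fi S.two)).1 (c3 ▸ c1)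

omit h2 he hb hJ in
theorem trace_cx : LinearMap.trace (Fi F) (Cx φ) 1 ≠ 0 := fun e => S.τ1 (by
  rw [LinearMap.trace_one, ← map_natCast (algebraMap F (Fi F)), map_eq_zero] at e
  rw [h.τ_eq, LinearMap.trace_one, ← (cx φ).finrank_eq, ← finrank_mul_finrank F (Fi F), Nat.cast_mul,
    e, mul_zero])

/-- The centraliser of an element of order four over the quadratic extension. -/
noncomputable def cxp : Pau (Fi F) (End (Fi F) (Cx φ)) (EE S.Q e b) where
  Q := QQ S.Q e b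
  P := lp hJ
  Z := (Subgroup.zpowers (S.P e)).comap (ru φ)
  τ := LinearMap.trace _ _
  nd := nd_QQ S.nd hb
  two := two_Fi S.two
  P0 := ru_inj (by simp [ru_lp, S.P0])
  mul x y := (S.mul x y).imp (fun e => ru_inj (by simpa [ru_lp] using e))
    fun e => ru_inj (by simpa [ru_lp, ru_neg] using e)
  sq x := ru_inj (by
    rw [map_mul, ru_lp, S.sq]
    change _ = ru φ (sg (S.Q x))
    rcases C6.z2 (S.Q x) with e | e <;> simp [e, ru_neg])
  neg_mem := (S.sub h2 he hb).neg_mem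
  zP c hc x := ru_inj (by simpa [ru_lp] using! (S.sub h2 he hb).zP _ hc x)
  zz c hc d hd := ru_inj (by simpa using (S.sub h2 he hb).zz _ hc _ hd)
  z1 c hc e := ((S.sub h2 he hb).z1 _ hc (by rw [← map_mul, e, map_one])).imp
    (fun e => ru_inj e) fun e => ru_inj e
  z2 c hc := ((S.sub h2 he hb).z2 _ hc).imp (fun e => ru_inj e) fun e => ru_inj e
  τc := LinearMap.trace_mul_comm _
  τ1 := trace_cx h
  sep g _ := ⟨1, Subgroup.one_mem _, sep_of_span (trace_cx h) (span_lp h h2 he hb hJ) g⟩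

theorem cxp_PV : (cxp h h2 he hb hJ).PV :=
  ⟨rfl, span_lp h h2 he hb hJ, fun _ hc =>
    let ⟨k, hk⟩ := exists_scal hJ (sq_one he) hc
    ⟨k, fun v => LinearMap.congr_fun hk.symm v⟩⟩

theorem mem_cxp {r : (End (Fi F) (Cx φ))ˣ} : r ∈ (cxp h h2 he hb hJ).R ↔ ru φ r ∈ S.R := by
  refine ⟨fun ⟨x, c, hc, e⟩ => (mem_sub_R.1 (⟨x, _, hc, ?_⟩ : _ ∈ (S.sub h2 he hb).R)).1,
    fun hr => ?_⟩
  · rw [e, map_mul]; exact congrArg _ (ru_lp hJ x)
  · obtain ⟨x, c, hc, e⟩ := (mem_sub_R (h := h2) (he := he) (hb := hb)).2 ⟨hr, (ru_comm hJ r).symm⟩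
    obtain ⟨c, rfl⟩ := exists_ru hJ ((S.sub h2 he hb).zz c hc _ (Subgroup.mem_zpowers _))
    exact ⟨x, c, hc, ru_inj (by rw [e, map_mul]; exact congrArg _ (ru_lp hJ x).symm)⟩

end Pau

end Cx

theorem Pau.PV.dich_ns (hse : SE.{u}) (hF : (Nat.card F).Prime) (h : S.PV) (h2 : S.Two)
    (hX : S.OverF X) (hB : B.Nondegenerate) (hS : B.IsSymm) (hXC : X ≤ Iso B) {k : ℕ}
    (hk : finrank (ZMod 2) E = 2 * k + 6) (he : S.Q e = 1) :
    S.N0 X (S.P e) ∨ Big B X (S.P e) := by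
  by_cases hi : ∃ i : F, i * i = -1
  · exact hi.elim fun _ => h.split hse hF h2 hX hB hXC hk he
  have : Fact (∀ r : F, r ^ 2 ≠ -1 + 0 * r) := ⟨fun r e => hi ⟨r, by simpa [pow_two] using e⟩⟩
  have a1 := Pau.sq_one he
  let φ : Fi F →ₐ[F] End F V := QuadraticAlgebra.lift ⟨S.P e, by simpa using val_sq a1⟩
  have hJ : φ ω = S.P e := by simp [φ]
  obtain ⟨b, hb⟩ := exists_one S.nd (ne_of_Q he)
  have a2 := hXC (hX.le (S.P_mem e))
  have a3 : starRingEnd (Fi F) ≠ RingHom.id _ := fun e => S.two (by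
    simpa [starRingEnd_apply, neg_eq_iff_add_eq_zero, one_add_one_eq_two] using
      congrArg QuadraticAlgebra.im (RingHom.congr_fun e ω))
  have a4 : (herm hJ a2 a1).IsSymm := ⟨fun u v => by
    ext <;> simp [herm_apply, starRingEnd_apply, hS.eq (cx φ u), B_J a2 a1]⟩
  have a5 := ofHerm_isHerm_of_finite a3 star_star _ a4
  have a6 : ∀ g, ru φ g ∈ Iso B → g ∈ Iso (ofHerm a3 star_star _ a4).B := fun g hg u v => by
    simp only [ofHerm_B, herm_apply, cx_ru]
    rw [← mul_smul, ← ru_comm hJ, mul_smul, hg, hg]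
  have b1 : (Pau.cxp h h2 he hb hJ).OverF (X.comap (ru φ)) :=
    ⟨fun r hr => hX.le ((Pau.mem_cxp ..).1 hr), fun u c1 v c2 c3 c4 => by
      rw [Subgroup.mem_comap, map_mul, map_inv, ru_hs S.two (two_Fi S.two) c3,
        ru_hs S.two (two_Fi S.two) c4]
      exact hX.pr _ ((Pau.mem_cxp ..).1 c1) _ ((Pau.mem_cxp ..).1 c2) (congrArg (ru φ) c3)
        (congrArg (ru φ) c4)⟩
  obtain ⟨j, hj⟩ := exists_ru hJ rfl
  have b2 : finrank (ZMod 2) (EE S.Q e b) = 2 * k + 4 := by have := finrank_EE S.nd hb; omega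
  refine (ind_su hse hF (fun t ht => ⟨t.re, QuadraticAlgebra.ext rfl ?_⟩) k (Pau.cxp_PV ..)
    ⟨j, ⟨1, by simp [hj]⟩, ru_inj (by simpa [hj])⟩ b2 a5
    (fun x hx => (cx φ).map_eq_zero_iff.1 (hB.1 _ fun y => congrArg QuadraticAlgebra.re
      (hx ((cx φ).symm y)))) b1 fun g hg => a6 g (hXC hg)).imp (fun c1 g c2 c3 r c4 c5 => ?_)
    fun c1 g c2 c3 c4 => ?_
  · have := congrArg QuadraticAlgebra.im ht
    simp only [starRingEnd_apply, QuadraticAlgebra.im_star] at this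
    exact mul_left_cancel₀ S.two ((mul_zero _).trans (by linear_combination this))
  · obtain ⟨g, rfl⟩ := exists_ru hJ c3
    obtain ⟨r, rfl⟩ := exists_ru hJ c5
    simpa using (Pau.mem_cxp ..).1 (Pau.conj_mem (c1 c2) ((Pau.mem_cxp ..).2 c4))
  · obtain ⟨g, rfl⟩ := exists_ru hJ c3
    exact c1 _ b1.le (fun g hg n hn => Subgroup.mul_mem _ (Subgroup.mul_mem _ hg hn)
      (Subgroup.inv_mem _ hg)) ((mem_up_SUV a5).2 ⟨a6 g c2, mem_SLV_of_pow hF (ru_inj (by simpa))⟩)

end CfsgLib.C6
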