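import Mathlib
import Cfsg.Agent.Lib.C6.Cx

/-! Maximality of the normaliser of an extraspecial 2-group in an orthogonal group. -/

set_option autoImplicit false
set_option linter.unusedSectionVars false

namespace CfsgLib.C6

open CfsgLib.OrthE CfsgLib.OMax CfsgLib.SUMax CfsgLib.ClMax CfsgLib.Forms Module QuadraticMap
open Cfsg Cfsg.Geo

universe u v

section Abs

variable {F : Type*} {V : Type u} [Field F] [AddCommGroup V] [Module F V] [FiniteDimensional F V]
  [Finite F] {E : Type v} [AddCommGroup E] [Module (ZMod 2) E] [FiniteDimensional (ZMod 2) E]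
  {S : Pau F (End F V) E} {B : LinearMap.BilinForm F V} {Q : QuadraticForm F V}

theorem Pau.Two.hd_mem_comm (h2 : S.Two) (h7 : 7 ≤ finrank (ZMod 2) E) (hR : S.R ≤ Iso B) :
    S.OverF ⁅Iso B, Iso B⁆ := by
  have k1 : ∀ {u v c d}, S.Ov u c → S.Ov v d → u * u = -1 → v * v = -1 → polar S.Q c d = 1 →
      hs v * (hs u)⁻¹ ∈ ⁅Iso B, Iso B⁆ := fun {u v c d} a1 a2 a3 a4 a5 => by
    obtain ⟨f, b1, b2, -⟩ := exists_ns_list S.nd [c, d] (by simp; omega)
    have b3 := Pau.sq_one b1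
    have b4 := a2.mul a1.inv
    have b5 : v * u⁻¹ * (v * u⁻¹) = -1 := (h2.Q_one b4).2 (by
      simp [Q_add, (h2.Q_one a1).1 a3, (h2.Q_one a2).1 a4, pc1 a5, z11])
    have b6 := hs_conj S.two a3 (hs (v * u⁻¹))
    rw [hs_anti S.two b5 (a1.comm1 b4 (by simp [a5])), inv_mul_cancel_right,
      mul_inv_eq_iff_eq_mul] at b6
    have c1 : Commute (hs u) (hs (S.P f)) :=
      hs_hs_comm S.two a3 b3 (a1.comm0 (S.ov_P f) (b2 c (by simp)))
    have c2 : Commute (hs (v * u⁻¹)) (hs (S.P f)) := hs_hs_comm S.two b5 b3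
      (b4.comm0 (S.ov_P f) (by simp [b2 c (by simp), b2 d (by simp)]))
    refine mem_comm (hd_mem_Iso S.two (hR b4.mem) (hR (S.P_mem f)) b5 b3)
      (hd_mem_Iso S.two (hR a1.mem) (hR (S.P_mem f)) a3 b3) ?_
    rw [mul_assoc, ← mul_assoc _ (hs u), ← c1.inv_right.eq, ← mul_assoc, ← mul_assoc, b6]
    simp only [mul_assoc, inv_mul_cancel_left]
    rw [← mul_assoc (hs (v * u⁻¹)), c2.inv_right.eq, mul_assoc, c2.inv_right.eq]
  have k2 : ∀ u ∈ S.R, ∀ v ∈ S.R, u * u = -1 → v * v = -1 → hs u * (hs v)⁻¹ ∈ ⁅Iso B, Iso B⁆ := by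
    rintro u ⟨c, a1⟩ v ⟨d, a2⟩ a3 a4
    obtain ⟨f, b1, b2, b3⟩ := exists_ns_dual S.nd (ne_of_Q ((h2.Q_one a1).1 a3))
      (ne_of_Q ((h2.Q_one a2).1 a4)) (Or.inl h7)
    simpa [mul_assoc] using Subgroup.mul_mem _ (k1 (S.ov_P f) a1 (Pau.sq_one b1) a3 (pc1 b2))
      (k1 a2 (S.ov_P f) a4 (Pau.sq_one b1) b3)
  exact ⟨Pau.R_le_of_sq (by omega) fun u a1 a2 => hs_div_neg S.two a2 ▸ k2 u a1 _
    (by simpa using S.R.mul_mem (S.Z_le S.neg_mem) a1) a2 (by simpa using a2), k2⟩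

theorem polar_J {J : (End F V)ˣ} (h1 : J ∈ Iso (polarBilin Q)) (h2 : J * J = -1) (u v : V) :
    polar Q (J • u) v = -polar Q u (J • v) := by
  rw [← show polar Q _ _ = polar Q _ _ from h1 (J • u) v, ← mul_smul, h2]; simp

variable (Q) in
/-- Isometries as units. -/
noncomputable def oU : O Q →* (End F V)ˣ := toE.symm.toMonoidHom.comp (O Q).subtype

theorem oU_smul (g : O Q) (v : V) : oU Q g • v = g.1 v := rfl

theorem oU_inj : Function.Injective (oU Q) := toE.symm.injective.comp (O Q).subtype_injective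

theorem oU_range (h2 : (2 : F) ≠ 0) : (⊤ : Subgroup (O Q)).map (oU Q) = Iso (polarBilin Q) := by
  refine le_antisymm (fun _ ⟨g, _, e⟩ => e ▸ O_polar g) fun g hg =>
    ⟨⟨toE g, fun x => mul_left_cancel₀ h2 ?_⟩, trivial, toE.symm_apply_apply g⟩
  simpa [polar_self] using! hg x x

theorem Pau.PV.E_le (h : S.PV) (hQ : Nondeg Q) (hR : S.R ≤ Iso (polarBilin Q)) {X : Subgroup (O Q)}
    (hX : ∀ e, S.Q e = 1 → Big (polarBilin Q) (X.map (oU Q)) (S.P e)) : OrthE.E Q ≤ X := by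
  have := Fintype.ofFinite F
  have k1 : ∀ e, S.Q e = 1 → ∀ x, Q x = 0 → ∀ c : F, EA X x (c • S.P e • x) := by
    intro e he x hx c
    have a1 := Pau.sq_one he
    have a2 := polar_J (hR (S.P_mem e)) a1
    have a3 : polar Q x (S.P e • x) = 0 := mul_left_cancel₀ S.two (by
      linear_combination a2 x x + polar_comm Q x (S.P e • x))
    have a4 : polar Q x (c • S.P e • x) = 0 := by simp [a3]
    have a5 : Q (S.P e • x) = 0 := mul_left_cancel₀ S.two (by
      simpa [polar_self, hx] using hR (S.P_mem e) x x)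
    have a6 : ∀ v : V, S.P e • S.P e • v = -v := fun v => by simp [← mul_smul, a1]
    refine ⟨hx, a4, (Subgroup.mem_map_iff_mem oU_inj).1 (hX e he _ (O_polar _) (uext fun v => ?_) ?_)⟩
    · simp only [mul_smul, oU_smul, eich_ap hx a4, Q_smul, a5, polar_smul_left, a2, a6, smul_add,
        smul_sub, usmul_smul, smul_eq_mul, polar_neg_right]
      generalize S.P e • x = y, S.P e • v = w
      module
    · rw [← map_pow, eich_pow hx a4, ← Fintype.card_eq_nat_card, FiniteField.cast_card_eq_zero,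
        zero_smul, eich_zero_right, map_one]
  refine OrthE.E_le fun x a hx ha => ?_
  by_cases h0 : x = 0
  · rw [h0, eich_zero_left]; exact X.one_mem
  obtain ⟨y, hy⟩ := hQ.exists_eq h0 1
  obtain ⟨a', a1, a2⟩ : ∃ a', EA X x a' ∧ ∀ v, polar Q a' v = 1 * (polar Q
      ((polarBilin Q y).smulRight a x) v - polar Q x ((polarBilin Q y).smulRight a v)) :=
    h.induction (p := fun f => ∀ c : F, ∃ a, EA X x a ∧
      ∀ v, polar Q a v = c * (polar Q (f x) v - polar Q x (f v))) (fun e c => by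
        rcases C6.z2 (S.Q e) with he | he
        · refine ⟨0, EA.zero hx, fun v => ?_⟩
          have := hR (S.P_mem e) x (S.P e • v)
          rw [← mul_smul, Pau.sq_zero he, one_smul] at this
          simp [← usmul, show polar Q _ _ = polar Q _ _ from this]
        · refine ⟨_, k1 e he x hx (2 * c), fun v => ?_⟩
          rw [← usmul, ← usmul, polar_smul_left, polar_J (hR (S.P_mem e)) (Pau.sq_one he),
            smul_eq_mul]
          ring)
      (fun c => ⟨0, EA.zero hx, by simp⟩)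
      (fun f g c1 c2 c => let ⟨a, d1, d2⟩ := c1 c; let ⟨b, d3, d4⟩ := c2 c
        ⟨a + b, d1.add d3, fun v => by simp [d2, d4]; ring⟩)
      (fun t f c1 c => let ⟨a, d1, d2⟩ := c1 (c * t); ⟨a, d1, fun v => by simp [d2]; ring⟩) _ 1
  exact (a1.congr (sub_eq_zero.1 (hQ _ fun v => by simp [a2, ha, hy]))).mem

theorem Pau.PV.exists_eich (h : S.PV) (hQ : Nondeg Q) (hR : S.R ≤ Iso (polarBilin Q))
    (h6 : 6 ≤ finrank (ZMod 2) E) :
    ∃ x a, Q x = 0 ∧ polar Q x a = 0 ∧ oU Q (eich Q x a) ∉ S.Nm := by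
  obtain ⟨s, a, hs⟩ := S.exists_Inv (by omega)
  obtain ⟨x, a1, a2, a3⟩ := RootMax.quad_exists_sing Q ((hs.four_le h h6).trans' (by omega))
  obtain ⟨b, hb⟩ := exists_one S.nd hs.ne
  have a4 := smul_mem_of_anti ((S.ov_P b).comm1 hs.ov (pc1 hb)) a1
  have a5 : S.P b • x ≠ 0 := usmul_eq_zero.not.2 a2
  generalize S.P b • x = d at a4 a5
  have a6 : polar Q x d = 0 := (orth_WW S.two (hR hs.ov.mem) a1 a4).1
  refine ⟨x, d, a3, a6, fun a7 => ?_⟩
  obtain ⟨t, -, rfl⟩ := oU_range (Q := Q) S.two ▸ hR hs.ov.mem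
  obtain ⟨z, b1⟩ := S.R.mul_mem (Pau.conj_mem a7 hs.ov.mem) hs.ov.inv.mem
  have b2 : t.1 x = x := mem_WW.1 a1
  have b3 : t.1 d = -d := mem_WW_neg.1 a4
  rw [← map_inv, ← map_inv, ← map_mul, ← map_mul, ← map_mul, mul_assoc, mul_assoc, ← mul_assoc t,
    ← eich_neg, conj_eich, map_neg, b2, b3, neg_neg, eich_mul a3 a6 a6] at b1
  have b4 : oU Q (eich Q x (d + d)) ^ 4 = 1 := by
    rw [show 4 = 2 * 2 from rfl, pow_mul, pow_two (oU Q _)]
    rcases b1.sq with e | e <;> simp [e]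
  have b5 : polar Q x (d + d) = 0 := by simp [a6]
  rw [← map_pow, eich_pow a3 b5, map_eq_one_iff _ oU_inj] at b4
  obtain ⟨y, hy⟩ := hQ.exists_eq a2 1
  have b6 := eich_ap a3 (a := ((4 : ℕ) : F) • (d + d)) (by simp [a6]) y
  rw [b4, polar_comm Q x y, hy, one_smul, eq_sub_iff_add_eq] at b6
  generalize polar Q _ y - _ = c at b6
  have b7 := congrArg t.1 (add_left_cancel b6)
  have b8 : (16 : F) ≠ 0 := by
    rw [show (16 : F) = 2 ^ 4 by norm_num]; exact pow_ne_zero 4 S.two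
  simp only [map_smul, map_add, b2, b3] at b7
  exact a5 ((smul_eq_zero_iff_right b8).1 (by
    linear_combination (norm := module) add_left_cancel b6 - b7))

end Abs

/-- The orthogonal case. -/
theorem om_max {ι : Type} [Fintype ι] [DecidableEq ι] {F : Type u} [Field F] [Fintype F]
    (h9 : 9 ≤ Fintype.card ι) {Q : QuadraticForm F (ι → F)} (hQ : Nondeg Q)
    (hp : (Fintype.card F).Prime) (ho : Odd (Fintype.card F))
    {R : Subgroup (GL ι F)} (hR : IsSymplecticTypeGroup 2 R)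
    (habs : ActsAbsolutelyIrreducibly (matrixSet R)) (hRD : R ≤ isometryGroup F Q) {k : ℕ}
    (hc : Nat.card R = 2 ^ (1 + 2 * k)) (hZ : Nat.card (Subgroup.center R) = 2) :
    IsMaximalIn (omegaGL Q) (subgroupNormalizer R ⊓ omegaGL Q) := by
  have : Nonempty ι := Fintype.card_pos_iff.1 (by omega)
  have h2 := OrthE.two_ne_zero_of_odd ho
  obtain ⟨E, _, _, _, S, h, e, h1, h3, h4⟩ := exists_pau_GL h2 hR habs (Or.inl hZ)
  rw [hZ] at h1
  rw [hc, hZ, ← pow_succ', Nat.pow_right_inj (by omega)] at h3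
  have h5 : 2 ^ 6 < 2 ^ finrank (ZMod 2) E := by rw [← h4]; nlinarith
  rw [Nat.pow_lt_pow_iff_right (by omega)] at h5
  have h6 : S.R ≤ Iso (polarBilin Q) := e ▸ Subgroup.map_le_iff_le_comap.2 fun g hg =>
    O_polar (⟨toEquiv g, fun v => hRD hg v v⟩ : O Q)
  have h7 := Pau.two_of_card h1
  have h8 := h7.hd_mem_comm (by omega) h6
  rw [← oU_range h2, ← Subgroup.map_commutator, ← commutator_def] at h8
  refine isMaximalIn_omega hQ (by omega) _ (fun g => oU Q g ∈ S.Nm) (fun g k a => ?_)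
    (h.exists_eich hQ h6 (by omega)) fun X _ a1 g a2 a3 => h.E_le hQ h6 fun c hc => ?_
  · rw [show S.Nm = Subgroup.normalizer S.R from inf_eq_right.2 fun g _ => h.mem_CZ g, e,
      ← Subgroup.map_equiv_normalizer_eq, show oU Q k = toL g from toE.symm_apply_eq.2 a.symm]
    exact (Subgroup.mem_map_iff_mem toL.injective).symm
  have b1 : ∀ g ∈ S.Nm, g ∈ (commutator (O Q)).map (oU Q) → g ∈ X.map (oU Q) := by
    rintro _ b1 ⟨g, b2, rfl⟩
    exact ⟨g, a1 g b2 b1, rfl⟩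
  have b2 : S.OverF (X.map (oU Q)) := ⟨fun r hr => b1 r (S.R_le hr) (h8.le hr),
    fun u c1 v c2 c3 c4 => b1 _ (Pau.hd_mem c1 c2 c3 c4) (h8.pr u c1 v c2 c3 c4)⟩
  have b3 : X.map (oU Q) ≤ Iso (polarBilin Q) :=
    (Subgroup.map_mono le_top).trans (oU_range h2).le
  have b4 := (nondeg_iff Q).1 hQ
  obtain ⟨d, b5, b6⟩ : ∃ d, S.Q d = 1 ∧ Big (polarBilin Q) (X.map (oU Q)) (S.P d) := by
    by_contra! b5
    exact a3 (h.le_of_ns h7 b2 b4.1 b3 (by omega) se (by omega) (fun d b6 => (h.dich_ns se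
      (by simpa using hp) h7 b2 b4 ⟨fun u v => polar_comm Q u v⟩ b3 (k := k - 3) (by omega)
      b6).resolve_right (b5 d b6)) ⟨g, a2, rfl⟩)
  obtain ⟨n, c1, c2⟩ := (b2.over fun g _ => h.mem_CZ g).trans (by omega) (ne_of_Q hc) (ne_of_Q b5)
    (hc.trans b5.symm)
  intro t c3 c4 c5
  refine (Subgroup.mul_mem_cancel_left _ c1).1 ((Subgroup.mul_mem_cancel_right _
    (Subgroup.inv_mem _ c1)).1 (b6 _ (Subgroup.mul_mem _ (Subgroup.mul_mem _ (b3 c1) c3)
      (Subgroup.inv_mem _ (b3 c1))) ((((S.ov_P c).φ n).congr c2).comm_P (h.mem_CZ _) ?_) ?_))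
  · simp [c4]
  · rw [conj_pow, c5, mul_one, mul_inv_cancel]

end CfsgLib.C6
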